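import Mathlib
import Cfsg.Agent.Chars.Apps.Burnside

/-!
The stabilizer of an anisotropic quadratic map from an elementary abelian 2-group to a group of
order at most four is solvable.
-/

set_option autoImplicit false

namespace CfsgLib.ThreeInvAut

/-- A homomorphism with solvable target and solvable kernel has solvable source. -/
theorem solvable_of_hom {A B : Type*} [Group A] [Group B] (f : A →* B)
    (hB : Group.IsSolvable B) (hk : Group.IsSolvable ↥f.ker) : Group.IsSolvable A :=
  Group.isSolvable_of_ker_le_range f.ker.subtype f (by rw [Subgroup.range_subtype])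

/-- A finite group whose order has only two given prime divisors is solvable, in any universe. -/
theorem solvable_of_two_primes {A : Type*} [Group A] [Finite A] {p q : ℕ} (hp : p.Prime)
    (hq : q.Prime) (h : ∀ r : ℕ, r.Prime → r ∣ Nat.card A → r = p ∨ r = q) : Group.IsSolvable A :=
  CfsgLib.Chars.Apps.isSolvable_of_primeFactors_subset A hp hq h

/-- Permutations of at most four points form a solvable group. -/
theorem solvable_perm {α : Type*} [Finite α] (h : Nat.card α ≤ 4) :
    Group.IsSolvable (Equiv.Perm α) := by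
  refine solvable_of_two_primes Nat.prime_two Nat.prime_three fun r hr hd => ?_
  rw [Nat.card_perm] at hd
  have := ((Nat.Prime.dvd_factorial hr).1 hd).trans h
  have hr2 := hr.two_le
  interval_cases r <;> first | omega | (exact absurd hr (by norm_num))

/-- A quadratic map without nontrivial zeros on a group of exponent two. -/
structure Aniso {W V : Type*} [CommGroup W] [CommGroup V] (q : W → V) : Prop where
  sqW : ∀ w : W, w * w = 1
  sqV : ∀ v : V, v * v = 1
  cardV : Nat.card V ≤ 4
  map_one : q 1 = 1
  aniso : ∀ w : W, q w = 1 → w = 1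
  bilin : ∀ x y z : W, q (x * (y * z)) * q x * q (y * z) =
    (q (x * y) * q x * q y) * (q (x * z) * q x * q z)

namespace Aniso

variable {W V : Type*} [CommGroup W] [CommGroup V] {q : W → V}

/-- The polar map. -/
def polar (q : W → V) (x y : W) : V := q (x * y) * q x * q y

theorem polar_mul (h : Aniso q) (x y z : W) : polar q x (y * z) = polar q x y * polar q x z :=
  h.bilin x y z

theorem polar_comm (q : W → V) (x y : W) : polar q x y = polar q y x := by
  unfold polar; rw [mul_comm x y, mul_assoc, mul_comm (q x), ← mul_assoc]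

theorem invW (h : Aniso q) (w : W) : w⁻¹ = w := inv_eq_of_mul_eq_one_right (h.sqW w)

theorem polar_one (h : Aniso q) (x : W) : polar q x 1 = 1 := by
  unfold polar; rw [mul_one, h.map_one, mul_one, h.sqV]

theorem polar_self (h : Aniso q) (x : W) : polar q x x = 1 := by
  unfold polar; rw [h.sqW, h.map_one, one_mul, h.sqV]

/-- The subgroup orthogonal to `v`. -/
def perp (h : Aniso q) (v : W) : Subgroup W where
  carrier := {w | polar q v w = 1}
  one_mem' := h.polar_one v
  mul_mem' {a b} ha hb := by
    show polar q v (a * b) = 1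
    rw [h.polar_mul, show polar q v a = 1 from ha, show polar q v b = 1 from hb, one_mul]
  inv_mem' {a} ha := by show polar q v a⁻¹ = 1; rw [h.invW]; exact ha

theorem mem_perp {h : Aniso q} {v w : W} : w ∈ h.perp v ↔ polar q v w = 1 := Iff.rfl

theorem self_mem_perp (h : Aniso q) (v : W) : v ∈ h.perp v := h.polar_self v

theorem map_mul_of_perp (h : Aniso q) {v w : W} (hw : w ∈ h.perp v) : q (v * w) = q v * q w := by
  have h1 : q (v * w) * q v * q w = 1 := hw
  rw [mul_assoc] at h1
  rw [eq_inv_of_mul_eq_one_left h1, inv_eq_of_mul_eq_one_right (h.sqV _)]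

variable [Finite W] [Finite V]

theorem mem_of_not (h : Aniso q) {c : V} (hc : c ≠ 1) {a b : V}
    (ha : a ∉ Subgroup.zpowers c) (hb : b ∉ Subgroup.zpowers c) : a * b ∈ Subgroup.zpowers c := by
  classical
  have hab : a = b ∨ a * c = b := by
    by_contra hne
    push Not at hne
    have h1c : (1 : V) ∈ Subgroup.zpowers c := one_mem _
    have hcc : c ∈ Subgroup.zpowers c := Subgroup.mem_zpowers c
    have ha1 : a ≠ 1 := fun e => ha (e ▸ h1c)
    have hac : a ≠ c := fun e => ha (e ▸ hcc)
    have hb1 : b ≠ 1 := fun e => hb (e ▸ h1c)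
    have hbc : b ≠ c := fun e => hb (e ▸ hcc)
    have hacn : a * c ∉ Subgroup.zpowers c := fun e => ha (by
      have := Subgroup.mul_mem _ e hcc
      rwa [mul_assoc, h.sqV, mul_one] at this)
    have e5 : ({1, c, a, a * c, b} : Set V).ncard = 5 := by
      rw [Set.ncard_insert_of_notMem, Set.ncard_insert_of_notMem, Set.ncard_insert_of_notMem,
        Set.ncard_insert_of_notMem, Set.ncard_singleton]
      · simpa using hne.2
      · simp only [Set.mem_insert_iff, Set.mem_singleton_iff, not_or]
        exact ⟨fun e => hc (mul_eq_left.1 e.symm), hne.1⟩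
      · simp only [Set.mem_insert_iff, Set.mem_singleton_iff, not_or]
        exact ⟨hac.symm, fun e => hacn (e ▸ hcc), hbc.symm⟩
      · simp only [Set.mem_insert_iff, Set.mem_singleton_iff, not_or]
        exact ⟨hc.symm, ha1.symm, fun e => hacn (e ▸ h1c), hb1.symm⟩
    have hle : ({1, c, a, a * c, b} : Set V).ncard ≤ Nat.card V := by
      rw [← Set.ncard_univ]; exact Set.ncard_le_ncard (Set.subset_univ _) (Set.toFinite _)
    have := h.cardV
    omega
  rcases hab with rfl | rfl
  · rw [h.sqV]; exact one_mem _
  · rw [← mul_assoc, h.sqV, one_mul]; exact Subgroup.mem_zpowers c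

theorem card_sup_zpowers_le (h : Aniso q) (A : Subgroup W) (x : W) :
    Nat.card ↥(A ⊔ Subgroup.zpowers x) ≤ 2 * Nat.card ↥A := by
  classical
  have hsub : ((A ⊔ Subgroup.zpowers x : Subgroup W) : Set W) ⊆
      (A : Set W) ∪ (fun a => x * a) '' (A : Set W) := by
    intro w hw
    obtain ⟨a, ha, b, ⟨i, rfl⟩, rfl⟩ := Subgroup.mem_sup.1 (show w ∈ A ⊔ Subgroup.zpowers x from hw)
    rcases Int.even_or_odd' i with ⟨j, rfl | rfl⟩
    · left
      show a * x ^ (2 * j) ∈ A
      rw [zpow_mul, zpow_two, h.sqW, one_zpow, mul_one]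
      exact ha
    · right
      refine ⟨a, ha, ?_⟩
      show x * a = a * x ^ (2 * j + 1)
      rw [zpow_add_one, zpow_mul, zpow_two, h.sqW, one_zpow, one_mul, mul_comm]
  have h1 := (Set.ncard_le_ncard hsub (Set.toFinite _)).trans (Set.ncard_union_le _ _)
  have h2 := Set.ncard_image_le (f := fun a => x * a) (Set.toFinite (A : Set W))
  have e0 : ((A ⊔ Subgroup.zpowers x : Subgroup W) : Set W).ncard =
    Nat.card ↥(A ⊔ Subgroup.zpowers x) := rfl
  have e1 : (A : Set W).ncard = Nat.card ↥A := rfl
  omega

/-- Where the map avoids a subgroup of index two, there are no three independent elements. -/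
theorem card_le_four (h : Aniso q) {L E0 : Subgroup W} {c : V} (hc : c ≠ 1)
    (hout : ∀ w ∈ L, w ∉ E0 → q w ∉ Subgroup.zpowers c) :
    Nat.card ↥L ≤ 4 * Nat.card ↥E0 := by
  classical
  by_cases hx : ∃ x ∈ L, x ∉ E0
  swap
  · push Not at hx
    have := Subgroup.card_le_of_le (show L ≤ E0 from hx)
    omega
  obtain ⟨x, hxL, hxE⟩ := hx
  set L1 := E0 ⊔ Subgroup.zpowers x with hL1
  have h1 := h.card_sup_zpowers_le E0 x
  by_cases hy : ∃ y ∈ L, y ∉ L1
  swap
  · push Not at hy
    have := Subgroup.card_le_of_le (show L ≤ L1 from hy)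
    rw [← hL1] at h1
    omega
  obtain ⟨y, hyL, hy1⟩ := hy
  set L2 := L1 ⊔ Subgroup.zpowers y with hL2
  have h2 := h.card_sup_zpowers_le L1 y
  by_cases hw : ∃ w ∈ L, w ∉ L2
  swap
  · push Not at hw
    have := Subgroup.card_le_of_le (show L ≤ L2 from hw)
    rw [← hL1] at h1
    rw [← hL2] at h2
    omega
  exfalso
  obtain ⟨w, hwL, hw2⟩ := hw
  have hE1 : E0 ≤ L1 := le_sup_left
  have h12 : L1 ≤ L2 := le_sup_left
  have hx1 : x ∈ L1 := (le_sup_right : Subgroup.zpowers x ≤ L1) (Subgroup.mem_zpowers x)
  have hy2 : y ∈ L2 := (le_sup_right : Subgroup.zpowers y ≤ L2) (Subgroup.mem_zpowers y)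
  have outy : ∀ a ∈ L1, a * y ∉ L1 := fun a ha e => hy1 ((Subgroup.mul_mem_cancel_left _ ha).1 e)
  have outw : ∀ a ∈ L2, a * w ∉ L2 := fun a ha e => hw2 ((Subgroup.mul_mem_cancel_left _ ha).1 e)
  have three : ∀ {a b d : V}, a ∉ Subgroup.zpowers c → b ∉ Subgroup.zpowers c →
      d ∉ Subgroup.zpowers c → a * b * d ∉ Subgroup.zpowers c :=
    fun ha hb hd e => hd ((Subgroup.mul_mem_cancel_left _ (h.mem_of_not hc ha hb)).1 e)
  have pol : ∀ b ∈ L, b ∉ L1 → polar q x b ∉ Subgroup.zpowers c := fun b hb hb1 =>
    three (hout _ (L.mul_mem hxL hb) fun e => hb1 ((Subgroup.mul_mem_cancel_left _ hx1).1 (hE1 e)))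
      (hout x hxL hxE) (hout b hb fun e => hb1 (hE1 e))
  have hyw : y * w ∉ L1 := fun e => outw y hy2 (h12 e)
  refine pol _ (L.mul_mem hyL hwL) hyw ?_
  rw [h.polar_mul]
  exact h.mem_of_not hc (pol y hyL hy1) (pol w hwL fun e => hw2 (h12 e))

theorem card_zpowers_le (h : Aniso q) (v : W) : Nat.card ↥(Subgroup.zpowers v) ≤ 2 := by
  rw [Nat.card_zpowers]
  exact Nat.le_of_dvd (by norm_num) (orderOf_dvd_of_pow_eq_one (by rw [pow_two, h.sqW]))

theorem mem_zpowers_iff (h : Aniso q) {v w : W} : w ∈ Subgroup.zpowers v ↔ w = 1 ∨ w = v := by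
  constructor
  · rintro ⟨i, rfl⟩
    show v ^ i = 1 ∨ v ^ i = v
    rcases Int.even_or_odd' i with ⟨j, rfl | rfl⟩
    · left; rw [zpow_mul, zpow_two, h.sqW, one_zpow]
    · right; rw [zpow_add_one, zpow_mul, zpow_two, h.sqW, one_zpow, one_mul]
  · rintro (rfl | rfl)
    · exact one_mem _
    · exact Subgroup.mem_zpowers _

theorem perp_out (h : Aniso q) {v w : W} (hv : v ≠ 1) (hw : w ∈ h.perp v)
    (hwv : w ∉ Subgroup.zpowers v) : q w ∉ Subgroup.zpowers (q v) := by
  rintro ⟨i, hi⟩
  rw [h.mem_zpowers_iff] at hwv
  push Not at hwv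
  change q v ^ i = q w at hi
  rcases Int.even_or_odd' i with ⟨j, rfl | rfl⟩
  · rw [zpow_mul, zpow_two, h.sqV, one_zpow] at hi
    exact hwv.1 (h.aniso w hi.symm)
  · rw [zpow_add_one, zpow_mul, zpow_two, h.sqV, one_zpow, one_mul] at hi
    have h1 := h.map_mul_of_perp hw
    rw [← hi, h.sqV] at h1
    exact hwv.2 ((eq_inv_of_mul_eq_one_right (h.aniso _ h1)).trans (h.invW v))

theorem card_perp_le (h : Aniso q) {v : W} (hv : v ≠ 1) : Nat.card ↥(h.perp v) ≤ 8 := by
  have h1 := h.card_le_four (L := h.perp v) (E0 := Subgroup.zpowers v)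
    (fun e => hv (h.aniso v e)) (fun w hw hwv => h.perp_out hv hw hwv)
  have := h.card_zpowers_le v
  omega

theorem card_le_perp_mul (h : Aniso q) (v : W) :
    Nat.card W ≤ Nat.card V * Nat.card ↥(h.perp v) := by
  classical
  let f : W →* V :=
    { toFun := fun w => polar q v w
      map_one' := h.polar_one v
      map_mul' := h.polar_mul v }
  have hker : f.ker = h.perp v := by ext w; rfl
  have h1 := f.ker.card_mul_index
  rw [Subgroup.index_ker, hker] at h1
  have h2 : Nat.card ↥f.range ≤ Nat.card V := Subgroup.card_le_card_group _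
  calc Nat.card W = Nat.card ↥(h.perp v) * Nat.card ↥f.range := h1.symm
    _ ≤ _ := by rw [mul_comm (Nat.card V)]; exact Nat.mul_le_mul_left _ h2

/-- Automorphisms preserving the map. -/
def isoGroup (q : W → V) : Subgroup (MulAut W) where
  carrier := {f | ∀ w, q (f w) = q w}
  one_mem' := fun _ => rfl
  mul_mem' {f g} hf hg w := by show q (f (g w)) = q w; rw [hf, hg]
  inv_mem' {f} hf w := by
    have h1 : q (f (f⁻¹ w)) = q (f⁻¹ w) := hf (f⁻¹ w)
    rw [MulAut.apply_inv_self] at h1
    exact h1.symm

theorem polar_invariant {f : MulAut W} (hf : f ∈ isoGroup q) (x y : W) :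
    polar q (f x) (f y) = polar q x y := by
  unfold polar; rw [← map_mul, hf, hf, hf]

/-- The stabilizer of a nontrivial vector is solvable. -/
theorem solvable_stab (h : Aniso q) {v : W} (hv : v ≠ 1) :
    Group.IsSolvable ↥(MulAction.stabilizer ↥(isoGroup q) v) := by
  classical
  set Z := Subgroup.zpowers v with hZ
  set T : Subgroup (W ⧸ Z) := (h.perp v).map (QuotientGroup.mk' Z) with hT
  have hTc : Nat.card ↥T ≤ 4 := by
    set K := h.perp v with hK
    have hZK : Z ≤ K := Subgroup.zpowers_le.2 (h.self_mem_perp v)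
    have h1 : Nat.card ↥K = Nat.card ↥Z * Nat.card ↥T := by
      have e := (Z.subgroupOf K).card_mul_index
      rw [Nat.card_congr (Subgroup.subgroupOfEquivOfLe hZK).toEquiv] at e
      have e2 : ((QuotientGroup.mk' Z).comp K.subtype).ker = Z.subgroupOf K := by
        rw [← MonoidHom.comap_ker, QuotientGroup.ker_mk']
        rfl
      rw [← e2, Subgroup.index_ker, MonoidHom.range_comp, Subgroup.range_subtype] at e
      exact e.symm
    have h2 := h.card_perp_le hv
    have h3 : Nat.card ↥Z = 2 := by
      rw [hZ, Nat.card_zpowers]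
      exact orderOf_eq_prime (hp := ⟨Nat.prime_two⟩) (by rw [pow_two, h.sqW]) hv
    rw [← hK, h1, h3] at h2
    omega
  let S := MulAction.stabilizer ↥(isoGroup q) v
  have hfv : ∀ f : ↥S, ((f : ↥(isoGroup q)) : MulAut W) v = v := fun f => f.2
  have hfK : ∀ (f : ↥S) (w : W), w ∈ h.perp v →
      ((f : ↥(isoGroup q)) : MulAut W) w ∈ h.perp v := fun f w hw => by
    rw [mem_perp]
    conv_lhs => arg 2; rw [← hfv f]
    rw [polar_invariant (f : ↥(isoGroup q)).2]
    exact hw
  have hZle : ∀ f : ↥S, Z ≤ Z.comap (((f : ↥(isoGroup q)) : MulAut W)).toMonoidHom := by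
    intro f w hw
    rw [Subgroup.mem_comap]
    rcases (h.mem_zpowers_iff).1 hw with rfl | rfl
    · rw [_root_.map_one]; exact one_mem _
    · show ((f : ↥(isoGroup q)) : MulAut W) w ∈ Z
      rw [hfv f]; exact hw
  let act : ↥S → ↥T → ↥T := fun f t =>
    ⟨QuotientGroup.map Z Z _ (hZle f) t, by
      obtain ⟨w, hw, hwe⟩ := t.2
      exact ⟨_, hfK f w hw, by rw [← hwe]; rfl⟩⟩
  have hact : ∀ (f g : ↥S) (t : ↥T), act (f * g) t = act f (act g t) := by
    intro f g t
    apply Subtype.ext
    show QuotientGroup.map Z Z _ (hZle (f * g)) (t : W ⧸ Z) =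
      QuotientGroup.map Z Z _ (hZle f) (QuotientGroup.map Z Z _ (hZle g) (t : W ⧸ Z))
    induction (t : W ⧸ Z) using QuotientGroup.induction_on with
    | H w => rfl
  have hact1 : ∀ t : ↥T, act 1 t = t := by
    intro t
    apply Subtype.ext
    show QuotientGroup.map Z Z _ (hZle 1) (t : W ⧸ Z) = (t : W ⧸ Z)
    induction (t : W ⧸ Z) using QuotientGroup.induction_on with
    | H w => rfl
  let φ : ↥S →* Equiv.Perm ↥T :=
    { toFun := fun f =>
        { toFun := act f
          invFun := act f⁻¹
          left_inv := fun t => by rw [← hact, inv_mul_cancel, hact1]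
          right_inv := fun t => by rw [← hact, mul_inv_cancel, hact1] }
      map_one' := Equiv.ext hact1
      map_mul' := fun f g => Equiv.ext (hact f g) }
  refine solvable_of_hom φ (solvable_perm hTc) ?_
  haveI : Fact (Nat.Prime 2) := ⟨Nat.prime_two⟩
  suffices hp : IsPGroup 2 ↥φ.ker by
    haveI := hp.isNilpotent
    infer_instance
  rintro ⟨f, hf⟩
  refine ⟨2, Subtype.ext ?_⟩
  show f ^ (2 ^ 2) = 1
  set g : MulAut W := ((f : ↥(isoGroup q)) : MulAut W) with hg
  have hgK : ∀ w ∈ h.perp v, g w = w ∨ g w = v * w := by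
    intro w hw
    have h1 := congrArg Subtype.val (Equiv.ext_iff.1 (MonoidHom.mem_ker.1 hf) ⟨QuotientGroup.mk' Z w, w, hw, rfl⟩)
    change ((g w : W) : W ⧸ Z) = ((w : W) : W ⧸ Z) at h1
    rw [QuotientGroup.eq, h.mem_zpowers_iff] at h1
    rcases h1 with e | e
    · exact Or.inl (inv_mul_eq_one.1 e)
    · right
      rw [← e, mul_assoc, h.sqW, mul_one, h.invW]
  have hgv : g v = v := hfv f
  have hfour : ∀ w, (g ^ 4) w = w := by
    intro w
    set k := w * g w with hk
    have hkK : k ∈ h.perp v := by
      show polar q v (w * g w) = 1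
      rw [h.polar_mul]
      conv_lhs => arg 2; arg 2; rw [← hgv]
      rw [polar_invariant (f : ↥(isoGroup q)).2, h.sqV]
    have hgw : g w = w * k := by rw [hk, ← mul_assoc, h.sqW, one_mul]
    have hg2 : ∀ u, (g ^ 4) u = g (g (g (g u))) := fun u => rfl
    rcases hgK k hkK with e | e
    · have h2 : g (g w) = w := by rw [hgw, map_mul, hgw, e, mul_assoc, h.sqW, mul_one]
      rw [hg2, h2, h2]
    · have h2 : g (g w) = v * w := by
        rw [hgw, map_mul, hgw, e, mul_comm v k, mul_assoc w k, ← mul_assoc k k, h.sqW, one_mul, mul_comm]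
      rw [hg2, h2]
      rw [map_mul, map_mul, hgv, h2, ← mul_assoc, hgv, h.sqW, one_mul]
  apply Subtype.ext
  apply Subtype.ext
  exact MulEquiv.ext hfour

/-- The colour classes have equal size when every perp has order eight. -/
theorem solvable_isoGroup (h : Aniso q) : Group.IsSolvable ↥(isoGroup q) := by
  classical
  haveI : Fintype W := Fintype.ofFinite W
  haveI : Fintype V := Fintype.ofFinite V
  set A := isoGroup q with hA
  -- a short orbit suffices
  have short : ∀ v : W, v ≠ 1 → Nat.card ↥(MulAction.orbit ↥A v) ≤ 4 → Group.IsSolvable ↥A := by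
    intro v hv hc
    let φ := MulAction.toPermHom ↥A ↥(MulAction.orbit ↥A v)
    refine solvable_of_hom φ (solvable_perm hc) ?_
    haveI := h.solvable_stab hv
    have hle : φ.ker ≤ MulAction.stabilizer ↥A v := by
      intro f hf
      exact congrArg Subtype.val
        (Equiv.ext_iff.1 (MonoidHom.mem_ker.1 hf) ⟨v, MulAction.mem_orbit_self v⟩)
    exact Group.isSolvable_of_isSolvable_injective (Subgroup.inclusion_injective hle)
  by_cases hshort : ∃ v : W, v ≠ 1 ∧ Nat.card ↥(MulAction.orbit ↥A v) ≤ 4
  · obtain ⟨v, hv, hc⟩ := hshort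
    exact short v hv hc
  push Not at hshort
  by_cases htriv : ∀ w : W, w = 1
  · haveI : Subsingleton W := ⟨fun a b => (htriv a).trans (htriv b).symm⟩
    haveI : Subsingleton ↥A := ⟨fun a b => Subtype.ext (MulEquiv.ext fun w => Subsingleton.elim _ _)⟩
    infer_instance
  push Not at htriv
  obtain ⟨v0, hv0⟩ := htriv
  -- every nontrivial colour occurs
  let F : V → Finset W := fun c => Finset.univ.filter (fun w => q w = c ∧ w ≠ 1)
  have hocc : ∀ c : V, c ≠ 1 → ∃ w : W, q w = c := by
    intro c hc
    by_contra hn
    push Not at hn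
    have h1 := h.card_le_four (L := ⊤) (E0 := ⊥) hc (fun w _ hw e => by
      obtain ⟨i, hi⟩ := e
      change c ^ i = q w at hi
      rw [Subgroup.mem_bot] at hw
      rcases Int.even_or_odd' i with ⟨j, rfl | rfl⟩
      · rw [zpow_mul, zpow_two, h.sqV, one_zpow] at hi
        exact hw (h.aniso w hi.symm)
      · rw [zpow_add_one, zpow_mul, zpow_two, h.sqV, one_zpow, one_mul] at hi
        exact hn w hi.symm)
    rw [Subgroup.card_top, Subgroup.card_bot] at h1
    have h2 := hshort v0 hv0
    have h3 : Nat.card ↥(MulAction.orbit ↥A v0) ≤ Nat.card W :=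
      Nat.card_le_card_of_injective _ Subtype.val_injective
    omega
  have hF5 : ∀ c : V, c ≠ 1 → 5 ≤ (F c).card := by
    intro c hc
    obtain ⟨w, hw⟩ := hocc c hc
    have hw1 : w ≠ 1 := fun e => hc (by rw [← hw, e, h.map_one])
    have h2 := hshort w hw1
    have h3 : Nat.card ↥(MulAction.orbit ↥A w) ≤ (F c).card := by
      rw [← Fintype.card_coe, ← Nat.card_eq_fintype_card]
      refine Nat.card_le_card_of_injective (fun u => ⟨u.1, ?_⟩) (fun u u' e => Subtype.ext ?_)
      · obtain ⟨f, hf⟩ := u.2
        have hf' : (f : MulAut W) w = u.1 := hf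
        refine Finset.mem_filter.2 ⟨Finset.mem_univ _, ?_, ?_⟩
        · rw [← hf', f.2, hw]
        · rw [← hf']; exact fun e => hw1 ((f : MulAut W).injective (e.trans (_root_.map_one (f : MulAut W)).symm))
      · exact congrArg (fun p : ↥(F c) => (p : W)) e
    omega
  have hsum : ∑ c ∈ Finset.univ.erase (1 : V), (F c).card + 1 = Nat.card W := by
    have h1 : ((Finset.univ.erase (1 : W))).card = ∑ c ∈ Finset.univ.erase (1 : V), (F c).card := by
      rw [Finset.card_eq_sum_card_fiberwise (f := q) (t := Finset.univ.erase (1 : V))]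
      · refine Finset.sum_congr rfl fun c _ => congrArg Finset.card ?_
        ext w
        simp [F, and_comm]
      · intro w hw
        simp only [Finset.mem_coe, Finset.mem_erase, Finset.mem_univ, and_true] at hw ⊢
        exact fun e => hw (h.aniso w e)
    rw [← h1, Finset.card_erase_of_mem (Finset.mem_univ _), Finset.card_univ, Nat.card_eq_fintype_card]
    have := Fintype.card_pos (α := W)
    omega
  have hne1 : q v0 ≠ 1 := fun e => hv0 (h.aniso v0 e)
  have hW2 : IsPGroup 2 W := fun w => ⟨1, by rw [pow_one, pow_two, h.sqW]⟩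
  obtain ⟨d, hd⟩ := (@IsPGroup.iff_card 2 W _ ⟨Nat.prime_two⟩ _).1 hW2
  -- the target has order four
  set c1 := q v0 with hc1
  obtain ⟨c2, hc2, hc21⟩ : ∃ c : V, c ≠ 1 ∧ c ≠ c1 := by
    by_contra hn
    push Not at hn
    have hout : ∀ w ∈ h.perp v0, w ∈ Subgroup.zpowers v0 := by
      intro w hw
      by_contra hwv
      apply h.perp_out hv0 hw hwv
      by_cases e : q w = 1
      · rw [e]; exact one_mem _
      · rw [hn _ e]; exact Subgroup.mem_zpowers _
    have h1 := Subgroup.card_le_of_le (show h.perp v0 ≤ Subgroup.zpowers v0 from hout)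
    have h2 := h.card_zpowers_le v0
    have h3 := h.card_le_perp_mul v0
    have h4 : Nat.card V ≤ 2 := by
      rw [← Set.ncard_univ]
      refine (Set.ncard_le_ncard (t := {1, c1}) ?_ (Set.toFinite _)).trans ?_
      · intro c _
        by_cases e : c = 1
        · exact Or.inl e
        · exact Or.inr (hn c e)
      · exact (Set.ncard_insert_le _ _).trans (by simp)
    have h5 := hshort v0 hv0
    have h6 : Nat.card ↥(MulAction.orbit ↥A v0) ≤ Nat.card W :=
      Nat.card_le_card_of_injective _ Subtype.val_injective
    have h7 := Nat.mul_le_mul h4 (h1.trans h2)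
    omega
  set c3 := c1 * c2 with hc3
  have hc31 : c3 ≠ 1 := fun e => hc21 ((eq_inv_of_mul_eq_one_right e).trans
    (inv_eq_of_mul_eq_one_right (h.sqV c1)))
  have hc3a : c3 ≠ c1 := fun e => hc2 (mul_eq_left.1 e)
  have hc3b : c3 ≠ c2 := fun e => hne1 (mul_eq_right.1 e)
  have hVuniv : Finset.univ.erase (1 : V) = {c1, c2, c3} := by
    symm
    refine Finset.eq_of_subset_of_card_le ?_ ?_
    · intro c hc
      simp only [Finset.mem_insert, Finset.mem_singleton] at hc
      rcases hc with rfl | rfl | rfl <;> simp [hne1, hc2, hc31]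
    · rw [Finset.card_erase_of_mem (Finset.mem_univ _), Finset.card_univ,
        Finset.card_eq_three.2 ⟨c1, c2, c3, hc21.symm, hc3a.symm, hc3b.symm, rfl⟩]
      have := h.cardV
      rw [Nat.card_eq_fintype_card] at this
      omega
  rw [hVuniv, Finset.sum_insert (by simp [hc21.symm, hc3a.symm]),
    Finset.sum_pair hc3b.symm] at hsum
  have h5a := hF5 c1 hne1
  have h5b := hF5 c2 hc2
  have h5c := hF5 c3 hc31
  -- the order of `W` is sixteen
  have hd4 : d = 4 := by
    have hd5 : Nat.card W ≤ 32 := by
      have h3 := h.card_le_perp_mul v0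
      have h4 := Nat.mul_le_mul h.cardV (h.card_perp_le hv0)
      omega
    have hge : 4 ≤ d := by
      by_contra hlt
      have := Nat.pow_le_pow_right (show 0 < 2 by norm_num) (show d ≤ 3 by omega)
      omega
    have hle : d ≤ 5 := by
      by_contra hgt
      have := Nat.pow_le_pow_right (show 0 < 2 by norm_num) (show 6 ≤ d by omega)
      omega
    by_contra hne
    obtain rfl : d = 5 := by omega
    replace hd : Nat.card W = 32 := hd.trans (by norm_num)
    -- every perp has order eight with three elements of each other colour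
    have hperp : ∀ (v : W) (a c : V), q v = a → v ≠ 1 → c ≠ 1 → c ≠ a →
        (Finset.univ.filter (fun w => w ∈ h.perp v ∧ q w = c)).card = 3 := by
      intro v a c hva hv hc hca
      have ha : a ≠ 1 := fun e => hv (h.aniso v (hva.trans e))
      have hK : Nat.card ↥(h.perp v) = 8 := by
        have h3 := h.card_le_perp_mul v
        have h4 := Nat.mul_le_mul_right (Nat.card ↥(h.perp v)) h.cardV
        have h5 := h.card_perp_le hv
        omega
      set Kc := Finset.univ.filter (fun w => w ∈ h.perp v ∧ q w = c) with hKc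
      set Kd := Finset.univ.filter (fun w => w ∈ h.perp v ∧ q w = a * c) with hKd
      have hbij : Kc.card = Kd.card := by
        refine Finset.card_nbij' (fun w => v * w) (fun w => v * w) ?_ ?_ ?_ ?_
        · intro w hw
          simp only [hKc, hKd, Finset.mem_coe, Finset.mem_filter, Finset.mem_univ, true_and] at hw ⊢
          exact ⟨Subgroup.mul_mem _ (h.self_mem_perp v) hw.1,
            by rw [h.map_mul_of_perp hw.1, hva, hw.2]⟩
        · intro w hw
          simp only [hKc, hKd, Finset.mem_coe, Finset.mem_filter, Finset.mem_univ, true_and] at hw ⊢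
          exact ⟨Subgroup.mul_mem _ (h.self_mem_perp v) hw.1,
            by rw [h.map_mul_of_perp hw.1, hva, hw.2, ← mul_assoc, h.sqV, one_mul]⟩
        · intro w _; show v * (v * w) = w; rw [← mul_assoc, h.sqW, one_mul]
        · intro w _; show v * (v * w) = w; rw [← mul_assoc, h.sqW, one_mul]
      have hca' : c ∉ Subgroup.zpowers a := by
        rintro ⟨i, hi⟩
        change a ^ i = c at hi
        rcases Int.even_or_odd' i with ⟨j, rfl | rfl⟩
        · rw [zpow_mul, zpow_two, h.sqV, one_zpow] at hi; exact hc hi.symm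
        · rw [zpow_add_one, zpow_mul, zpow_two, h.sqV, one_zpow, one_mul] at hi; exact hca hi.symm
      have hsplit : Finset.univ.filter (fun w => w ∈ h.perp v) = {1, v} ∪ (Kc ∪ Kd) := by
        ext w
        simp only [hKc, hKd, Finset.mem_filter, Finset.mem_univ, true_and, Finset.mem_union,
          Finset.mem_insert, Finset.mem_singleton]
        constructor
        · intro hw
          by_cases hwv : w ∈ Subgroup.zpowers v
          · exact Or.inl (h.mem_zpowers_iff.1 hwv)
          · right
            have h1 := h.perp_out hv hw hwv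
            rw [hva] at h1
            by_cases e : q w = c
            · exact Or.inl ⟨hw, e⟩
            · refine Or.inr ⟨hw, ?_⟩
              obtain ⟨i, hi⟩ := h.mem_of_not ha h1 hca'
              change a ^ i = q w * c at hi
              rcases Int.even_or_odd' i with ⟨j, rfl | rfl⟩
              · rw [zpow_mul, zpow_two, h.sqV, one_zpow] at hi
                exact absurd ((eq_inv_of_mul_eq_one_left hi.symm).trans
                  (inv_eq_of_mul_eq_one_right (h.sqV c))) e
              · rw [zpow_add_one, zpow_mul, zpow_two, h.sqV, one_zpow, one_mul] at hi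
                rw [hi, mul_assoc, h.sqV, mul_one]
        · rintro ((rfl | rfl) | ⟨hw, -⟩ | ⟨hw, -⟩)
          · exact Subgroup.one_mem _
          · exact h.self_mem_perp _
          · exact hw
          · exact hw
      have hcard8 : (Finset.univ.filter (fun w => w ∈ h.perp v)).card = 8 := by
        rw [← hK, Nat.card_eq_fintype_card, Fintype.card_subtype]
      rw [hsplit, Finset.card_union_of_disjoint, Finset.card_pair hv.symm,
        Finset.card_union_of_disjoint] at hcard8
      · omega
      · rw [Finset.disjoint_left]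
        intro w hw hw'
        simp only [hKc, hKd, Finset.mem_filter, Finset.mem_univ, true_and] at hw hw'
        exact ha (mul_eq_right.1 (hw'.2.symm.trans hw.2))
      · rw [Finset.disjoint_left]
        intro w hw hw'
        simp only [hKc, hKd, Finset.mem_filter, Finset.mem_univ, true_and, Finset.mem_union] at hw'
        simp only [Finset.mem_insert, Finset.mem_singleton] at hw
        rcases hw with rfl | rfl <;> rcases hw' with ⟨-, e⟩ | ⟨-, e⟩
        · exact hc (e.symm.trans h.map_one)
        · exact hca ((eq_inv_of_mul_eq_one_right (e.symm.trans h.map_one)).trans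
            (inv_eq_of_mul_eq_one_right (h.sqV a)))
        · exact hca (e.symm.trans hva)
        · exact hc (mul_eq_left.1 (e.symm.trans hva))
    have heq : ∀ a c : V, a ≠ 1 → c ≠ 1 → c ≠ a → (F a).card = (F c).card := by
      intro a c ha hc hca
      have h1 : ∀ v ∈ F a, ((F c).filter (fun w => polar q v w = 1)).card = 3 := by
        intro v hv
        simp only [F, Finset.mem_filter, Finset.mem_univ, true_and] at hv
        rw [← hperp v a c hv.1 hv.2 hc hca]
        refine congrArg Finset.card ?_
        ext w
        simp only [F, Finset.mem_filter, Finset.mem_univ, true_and, mem_perp]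
        exact ⟨fun e => ⟨e.2, e.1.1⟩,
          fun e => ⟨⟨e.2, fun e1 => hc (by rw [← e.2, e1, h.map_one])⟩, e.1⟩⟩
      have h2 : ∀ w ∈ F c, ((F a).filter (fun v => polar q v w = 1)).card = 3 := by
        intro w hw
        simp only [F, Finset.mem_filter, Finset.mem_univ, true_and] at hw
        rw [← hperp w c a hw.1 hw.2 ha hca.symm]
        refine congrArg Finset.card ?_
        ext v
        simp only [F, Finset.mem_filter, Finset.mem_univ, true_and, mem_perp, polar_comm q v w]
        exact ⟨fun e => ⟨e.2, e.1.1⟩,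
          fun e => ⟨⟨e.2, fun e1 => ha (by rw [← e.2, e1, h.map_one])⟩, e.1⟩⟩
      have h3 : ∑ v ∈ F a, ((F c).filter (fun w => polar q v w = 1)).card =
          ∑ w ∈ F c, ((F a).filter (fun v => polar q v w = 1)).card := by
        simp only [Finset.card_filter]
        exact Finset.sum_comm
      rw [Finset.sum_congr rfl h1, Finset.sum_congr rfl h2, Finset.sum_const, Finset.sum_const,
        smul_eq_mul, smul_eq_mul] at h3
      omega
    have e12 := heq c1 c2 hne1 hc2 hc21
    have e13 := heq c1 c3 hne1 hc31 hc3a
    omega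
  subst hd4
  replace hd : Nat.card W = 16 := hd.trans (by norm_num)
  -- so each colour class has five elements and an element of order three is impossible
  by_cases h3 : 3 ∣ Nat.card ↥A
  · exfalso
    haveI : Fact (Nat.Prime 3) := ⟨Nat.prime_three⟩
    obtain ⟨g, hg⟩ := exists_prime_orderOf_dvd_card' 3 h3
    have hp : IsPGroup 3 ↥(Subgroup.zpowers g) :=
      IsPGroup.of_card (n := 1) (by rw [Nat.card_zpowers, hg, pow_one])
    set Fix : Subgroup W :=
      { carrier := {w | (g : MulAut W) w = w}
        one_mem' := _root_.map_one (g : MulAut W)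
        mul_mem' := fun {a b} ha hb => by
          show (g : MulAut W) (a * b) = a * b
          rw [map_mul, show (g : MulAut W) a = a from ha, show (g : MulAut W) b = b from hb]
        inv_mem' := fun {a} ha => by
          show (g : MulAut W) a⁻¹ = a⁻¹
          rw [map_inv, show (g : MulAut W) a = a from ha] } with hFix
    have hcls : ∀ c : V, c ≠ 1 → (F c).card = 5 →
        ((F c).filter (fun w => (g : MulAut W) w = w)).card % 3 = 2 := by
      intro c hc hc5
      let X : SubMulAction ↥(Subgroup.zpowers g) W :=
        { carrier := {w | q w = c ∧ w ≠ 1}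
          smul_mem' := fun f w hw => ⟨((f : ↥A).2 w).trans hw.1, fun e =>
            hw.2 (((f : ↥A) : MulAut W).injective
              (e.trans (_root_.map_one ((f : ↥A) : MulAut W)).symm))⟩ }
      have hXc : Nat.card X = 5 := by
        rw [← hc5, Nat.card_eq_fintype_card]
        exact Fintype.card_of_subtype (F c) (fun w => by
          simp only [F, Finset.mem_filter, Finset.mem_univ, true_and]; rfl)
      have hmod := hp.card_modEq_card_fixedPoints X
      rw [hXc] at hmod
      have hfix : Nat.card (MulAction.fixedPoints ↥(Subgroup.zpowers g) X) =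
          ((F c).filter (fun w => (g : MulAut W) w = w)).card := by
        rw [← Fintype.card_coe, ← Nat.card_eq_fintype_card]
        refine Nat.card_congr
          { toFun := fun x => ⟨x.1.1, ?_⟩
            invFun := fun w => ⟨⟨w.1, ?_⟩, ?_⟩
            left_inv := fun x => rfl
            right_inv := fun w => rfl }
        · simp only [F, Finset.mem_filter, Finset.mem_univ, true_and]
          exact ⟨x.1.2, congrArg Subtype.val (x.2 ⟨g, Subgroup.mem_zpowers g⟩)⟩
        · have := w.2
          simp only [F, Finset.mem_filter, Finset.mem_univ, true_and] at this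
          exact this.1
        · have hw' := w.2
          simp only [F, Finset.mem_filter, Finset.mem_univ, true_and] at hw'
          intro f
          apply Subtype.ext
          show ((f : ↥A) : MulAut W) w.1 = w.1
          have hle : Subgroup.zpowers g ≤ MulAction.stabilizer ↥A w.1 :=
            Subgroup.zpowers_le.2 hw'.2
          exact hle f.2
      unfold Nat.ModEq at hmod
      omega
    have hfixc : Nat.card ↥Fix = 1 + (((F c1).filter (fun w => (g : MulAut W) w = w)).card +
        (((F c2).filter (fun w => (g : MulAut W) w = w)).card +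
        ((F c3).filter (fun w => (g : MulAut W) w = w)).card)) := by
      have h1 : Nat.card ↥Fix = (Finset.univ.filter (fun w => (g : MulAut W) w = w)).card := by
        rw [Nat.card_eq_fintype_card, Fintype.card_subtype]
        rfl
      rw [h1]
      have hsplit : Finset.univ.filter (fun w => (g : MulAut W) w = w) =
          insert (1 : W) ((F c1).filter (fun w => (g : MulAut W) w = w) ∪
            ((F c2).filter (fun w => (g : MulAut W) w = w) ∪
              (F c3).filter (fun w => (g : MulAut W) w = w))) := by
        ext w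
        simp only [F, Finset.mem_filter, Finset.mem_univ, true_and, Finset.mem_insert, Finset.mem_union]
        constructor
        · intro hw
          by_cases hw1 : w = 1
          · exact Or.inl hw1
          · right
            have : q w ∈ Finset.univ.erase (1 : V) :=
              Finset.mem_erase.2 ⟨fun e => hw1 (h.aniso w e), Finset.mem_univ _⟩
            rw [hVuniv] at this
            simp only [Finset.mem_insert, Finset.mem_singleton] at this
            rcases this with e | e | e
            · exact Or.inl ⟨⟨e, hw1⟩, hw⟩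
            · exact Or.inr (Or.inl ⟨⟨e, hw1⟩, hw⟩)
            · exact Or.inr (Or.inr ⟨⟨e, hw1⟩, hw⟩)
        · rintro (rfl | ⟨-, hw⟩ | ⟨-, hw⟩ | ⟨-, hw⟩)
          · exact _root_.map_one _
          · exact hw
          · exact hw
          · exact hw
      rw [hsplit, Finset.card_insert_of_notMem, Finset.card_union_of_disjoint,
        Finset.card_union_of_disjoint, add_comm]
      · rw [Finset.disjoint_left]
        intro w hw hw'
        simp only [F, Finset.mem_filter, Finset.mem_univ, true_and] at hw hw'
        exact hc3b (hw'.1.1.symm.trans hw.1.1)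
      · rw [Finset.disjoint_left]
        intro w hw hw'
        simp only [F, Finset.mem_filter, Finset.mem_univ, true_and, Finset.mem_union] at hw hw'
        rcases hw' with e | e
        · exact hc21 (e.1.1.symm.trans hw.1.1)
        · exact hc3a (e.1.1.symm.trans hw.1.1)
      · simp [F]
    have hdvd : Nat.card ↥Fix ∣ 16 := hd ▸ Subgroup.card_subgroup_dvd_card Fix
    have hne : Nat.card ↥Fix ≠ 16 := by
      intro e
      have htop : Fix = ⊤ := Subgroup.eq_top_of_le_card Fix (le_of_eq (by rw [hd, e]))
      have : g = 1 := Subtype.ext (MulEquiv.ext fun w => (htop ▸ Subgroup.mem_top w : w ∈ Fix))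
      rw [this, orderOf_one] at hg
      omega
    have m1 := hcls c1 hne1 (by omega)
    have m2 := hcls c2 hc2 (by omega)
    have m3 := hcls c3 hc31 (by omega)
    have l1 := Finset.card_filter_le (F c1) (fun w => (g : MulAut W) w = w)
    have l2 := Finset.card_filter_le (F c2) (fun w => (g : MulAut W) w = w)
    have l3 := Finset.card_filter_le (F c3) (fun w => (g : MulAut W) w = w)
    have hle16 := Nat.le_of_dvd (by norm_num) hdvd
    obtain ⟨i, hi⟩ : ∃ i, Nat.card ↥Fix = 2 ^ i := by
      obtain ⟨i, -, hi⟩ := (Nat.dvd_prime_pow Nat.prime_two).1 (show Nat.card ↥Fix ∣ 2 ^ 4 from hdvd)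
      exact ⟨i, hi⟩
    have hi4 : i ≤ 4 := by
      by_contra hgt
      have := Nat.pow_le_pow_right (show 0 < 2 by norm_num) (show 5 ≤ i by omega)
      omega
    interval_cases i <;> omega
  · -- no element of order three
    have hc5 : (F c1).card = 5 := by omega
    have hw : ∃ w ∈ F c1, True := by
      obtain ⟨w, hw⟩ := Finset.card_pos.1 (show 0 < (F c1).card by omega)
      exact ⟨w, hw, trivial⟩
    obtain ⟨w, hwF, -⟩ := hw
    simp only [F, Finset.mem_filter, Finset.mem_univ, true_and] at hwF
    let φ := MulAction.toPermHom ↥A ↥(MulAction.orbit ↥A w)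
    haveI := h.solvable_stab hwF.2
    refine solvable_of_hom φ.rangeRestrict ?_ (by
      rw [MonoidHom.ker_rangeRestrict]
      exact Group.isSolvable_of_isSolvable_injective
        (Subgroup.inclusion_injective (show φ.ker ≤ MulAction.stabilizer ↥A w from fun f hf =>
          congrArg Subtype.val
            (Equiv.ext_iff.1 (MonoidHom.mem_ker.1 hf) ⟨w, MulAction.mem_orbit_self w⟩))))
    haveI hr : Group.IsSolvable ↥φ.range := by
      refine solvable_of_two_primes Nat.prime_two (by norm_num : Nat.Prime 5) fun r hr hdv => ?_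
      have hle5 : Nat.card ↥(MulAction.orbit ↥A w) ≤ 5 := by
        rw [← hc5, ← Fintype.card_coe, ← Nat.card_eq_fintype_card]
        refine Nat.card_le_card_of_injective (fun u => ⟨u.1, ?_⟩) (fun u u' e => Subtype.ext ?_)
        · obtain ⟨f, hf⟩ := u.2
          have hf' : (f : MulAut W) w = u.1 := hf
          refine Finset.mem_filter.2 ⟨Finset.mem_univ _, ?_, ?_⟩
          · rw [← hf', f.2, hwF.1]
          · rw [← hf']
            exact fun e => hwF.2 ((f : MulAut W).injective (e.trans (_root_.map_one (f : MulAut W)).symm))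
        · exact congrArg (fun p : ↥(F c1) => (p : W)) e
      have h1 : r ∣ (Nat.card ↥(MulAction.orbit ↥A w)).factorial := by
        rw [← Nat.card_perm]; exact hdv.trans (Subgroup.card_subgroup_dvd_card _)
      have h2 := ((Nat.Prime.dvd_factorial hr).1 h1).trans hle5
      have h3' : r ∣ Nat.card ↥A := hdv.trans (Subgroup.card_range_dvd φ)
      have hr2 := hr.two_le
      interval_cases r
      · exact Or.inl rfl
      · exact absurd h3' h3
      · exact absurd hr (by norm_num)
      · exact Or.inr rfl
    exact ((inferInstance : Group.IsSolvable ↥φ.range))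

end Aniso

end CfsgLib.ThreeInvAut
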